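import Mathlib
import Groth.Agent.Lib.EtShriek24.Coprod

/-!
# Extensions along filtered colimits from a dense subcategory of finitely presentable objects
-/

set_option autoImplicit false
set_option linter.style.haveILetI false
set_option linter.unusedSectionVars false
set_option backward.isDefEq.respectTransparency false

universe w v' u u' u''

open CategoryTheory CategoryTheory.Limits

noncomputable section

namespace Groth.Agent.IndExt2

variable {C : Type u} [Category.{w} C] {P : Type u''} [Category.{w} P] (L : P ⥤ C)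
  {B : Type u'} [Category.{v'} B]
  [∀ M, IsFiltered (CostructuredArrow L M)] [∀ M, EssentiallySmall.{w} (CostructuredArrow L M)]
  [∀ d, IsFinitelyPresentable.{w} (L.obj d)] [L.IsDense]

/-- A small model of the category of stages over an object. -/
abbrev Stage (M : C) : Type w := SmallModel.{w} (CostructuredArrow L M)

/-- The stages over an object. -/
abbrev st (M : C) : Stage L M ⥤ CostructuredArrow L M := (equivSmallModel (CostructuredArrow L M)).inverse

instance (M : C) : IsFiltered (Stage L M) := IsFiltered.of_equivalence (equivSmallModel _)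

/-- The diagram of stages. -/
abbrev diag (M : C) : Stage L M ⥤ C := st L M ⋙ CostructuredArrow.proj L M ⋙ L

/-- The tautological cocone. -/
def presCocone (M : C) : Cocone (diag L M) where
  pt := M
  ι :=
    { app := fun a => ((st L M).obj a).hom
      naturality := fun a b h => (CostructuredArrow.w ((st L M).map h)).trans (Category.comp_id _).symm }

/-- An object is the colimit of its stages. -/
def presIsColimit (M : C) : IsColimit (presCocone L M) :=
  IsColimit.ofIsoColimit
    ((Functor.Final.isColimitWhiskerEquiv (st L M) _).symm (L.denseAt M))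
    (Cocone.ext (Iso.refl _) fun a => by
      simp [presCocone]
      exact Category.id_comp _)

theorem exists_factor {d : P} {J : Type w} [SmallCategory J] [IsFiltered J] {D : J ⥤ C} {c : Cocone D}
    (hc : IsColimit c) (φ : L.obj d ⟶ c.pt) : ∃ (j : J) (ψ : L.obj d ⟶ D.obj j), ψ ≫ c.ι.app j = φ :=
  IsFinitelyPresentable.exists_hom_of_isColimit hc φ

theorem exists_eq {d : P} {J : Type w} [SmallCategory J] [IsFiltered J] {D : J ⥤ C} {c : Cocone D}
    (hc : IsColimit c) {i j : J} (φ : L.obj d ⟶ D.obj i) (ψ : L.obj d ⟶ D.obj j)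
    (h : φ ≫ c.ι.app i = ψ ≫ c.ι.app j) :
    ∃ (k : J) (a : i ⟶ k) (b : j ⟶ k), φ ≫ D.map a = ψ ≫ D.map b := by
  have h' : (φ ≫ D.map (IsFiltered.leftToMax i j)) ≫ c.ι.app _ = (ψ ≫ D.map (IsFiltered.rightToMax i j)) ≫ c.ι.app _ := by
    simpa using h
  obtain ⟨k, p, q, hpq⟩ := IsFinitelyPresentable.exists_eq_of_isColimit hc _ _ h'
  refine ⟨IsFiltered.coeq p q, IsFiltered.leftToMax i j ≫ p ≫ IsFiltered.coeqHom p q,
    IsFiltered.rightToMax i j ≫ p ≫ IsFiltered.coeqHom p q, ?_⟩
  conv_rhs => rw [IsFiltered.coeq_condition]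
  simp only [Functor.map_comp, Category.assoc] at hpq ⊢
  rw [reassoc_of% hpq]

theorem preservesColimitsOfShape_costr (F' : C ⥤ B) [PreservesFilteredColimitsOfSize.{w, w} F'] (M : C) :
    PreservesColimitsOfShape (CostructuredArrow L M) F' :=
  haveI := PreservesFilteredColimitsOfSize.preserves_filtered_colimits (F := F') (Stage L M)
  preservesColimitsOfShape_of_equiv (equivSmallModel (CostructuredArrow L M)).symm F'

theorem isLeftKanExtension_of_preserves (F' : C ⥤ B)
    [PreservesFilteredColimitsOfSize.{w, w} F'] : F'.IsLeftKanExtension (𝟙 (L ⋙ F')) := by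
  refine Functor.LeftExtension.IsPointwiseLeftKanExtension.isLeftKanExtension
    (E := Functor.LeftExtension.mk F' (𝟙 (L ⋙ F'))) fun M => ?_
  haveI := preservesColimitsOfShape_costr L F' M
  refine (IsColimit.equivOfNatIsoOfIso (Functor.associator (CostructuredArrow.proj L M) L F') _ _ ?_)
    (isColimitOfPreserves F' (L.denseAt M))
  refine Cocone.ext (Iso.refl _) fun g => ?_
  simp
  refine ((congrArg (· ≫ _) (F'.map_id _)).trans (Category.id_comp _)).trans ?_
  exact (Category.id_comp _).symm

/-- Uniqueness of extensions. -/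
theorem nonempty_iso (F₁ F₂ : C ⥤ B) (h₁ : PreservesFilteredColimitsOfSize.{w, w} F₁)
    (h₂ : PreservesFilteredColimitsOfSize.{w, w} F₂) (e : L ⋙ F₁ ≅ L ⋙ F₂) : Nonempty (F₁ ≅ F₂) := by
  haveI := isLeftKanExtension_of_preserves L F₁
  haveI := isLeftKanExtension_of_preserves L F₂
  exact ⟨Functor.leftKanExtensionUniqueOfIso F₁ (𝟙 (L ⋙ F₁)) e F₂ (𝟙 (L ⋙ F₂))⟩

section Extension

variable [HasFilteredColimitsOfSize.{w, w} B] (F : P ⥤ B)

instance hasPointwise : L.HasPointwiseLeftKanExtension F := fun M => by
  haveI : HasColimitsOfShape (Stage L M) B := HasFilteredColimitsOfSize.HasColimitsOfShape _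
  haveI : HasColimitsOfShape (CostructuredArrow L M) B :=
    hasColimitsOfShape_of_equivalence (equivSmallModel (CostructuredArrow L M)).symm
  exact inferInstanceAs (HasColimit _)

/-- The component at a stage. -/
def cι {M : C} (K : P) (f : L.obj K ⟶ M) : F.obj K ⟶ (L.pointwiseLeftKanExtension F).obj M :=
  colimit.ι (CostructuredArrow.proj L M ⋙ F) (CostructuredArrow.mk (Y := K) f)

theorem cι_map {M N : C} (K : P) (f : L.obj K ⟶ M) (φ : M ⟶ N) :
    cι L F K f ≫ (L.pointwiseLeftKanExtension F).map φ = cι L F K (f ≫ φ) := by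
  dsimp only [cι, Functor.pointwiseLeftKanExtension]
  exact colimit.ι_desc _ _

theorem map_cι {M : C} {K K' : P} (a : K ⟶ K') (f : L.obj K' ⟶ M) :
    F.map a ≫ cι L F K' f = cι L F K (L.map a ≫ f) :=
  colimit.w (CostructuredArrow.proj L M ⋙ F)
    (show CostructuredArrow.mk (S := L) (Y := K) (L.map a ≫ f) ⟶ CostructuredArrow.mk (S := L) (Y := K') f from
      CostructuredArrow.homMk a rfl)

theorem preservesFilteredColimits :
    PreservesFilteredColimitsOfSize.{w, w} (L.pointwiseLeftKanExtension F) := by
  refine ⟨fun J _ _ => ⟨fun {D} => ⟨fun {c} hc => ⟨?_⟩⟩⟩⟩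
  let G := L.pointwiseLeftKanExtension F
  have hfac : ∀ x : CostructuredArrow L c.pt, ∃ p : Σ j : J, L.obj x.left ⟶ D.obj j,
      p.2 ≫ c.ι.app p.1 = x.hom := fun x => by
    obtain ⟨j, φ, h⟩ := exists_factor L hc x.hom
    exact ⟨⟨j, φ⟩, h⟩
  choose p hp using hfac
  have key : ∀ (s : Cocone (D ⋙ G)) (K : P) {i j : J} (φ : L.obj K ⟶ D.obj i) (ψ : L.obj K ⟶ D.obj j),
      φ ≫ c.ι.app i = ψ ≫ c.ι.app j → cι L F K φ ≫ s.ι.app i = cι L F K ψ ≫ s.ι.app j := by
    intro s K i j φ ψ h
    obtain ⟨k, a, b, hab⟩ := exists_eq L hc φ ψ h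
    rw [← s.w a, ← s.w b, ← Category.assoc, ← Category.assoc]
    refine congrArg (· ≫ s.ι.app k) ?_
    exact (cι_map L F K φ (D.map a)).trans ((congrArg (cι L F K) hab).trans (cι_map L F K ψ (D.map b)).symm)
  exact
    { desc := fun s => colimit.desc (CostructuredArrow.proj L c.pt ⋙ F) (Cocone.mk s.pt
        { app := fun x => cι L F x.left (p x).2 ≫ s.ι.app (p x).1
          naturality := fun x y g => by
            dsimp
            rw [Category.comp_id, ← Category.assoc]
            erw [map_cι]
            refine key s x.left _ _ ?_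
            rw [Category.assoc, hp, hp]
            exact CostructuredArrow.w g })
      fac := fun s j => by
        refine colimit.hom_ext fun x => ?_
        change cι L F x.left x.hom ≫ G.map (c.ι.app j) ≫ _ = cι L F x.left x.hom ≫ s.ι.app j
        rw [← Category.assoc, cι_map]
        refine (colimit.ι_desc (F := CostructuredArrow.proj L c.pt ⋙ F) _ (CostructuredArrow.mk (Y := x.left) (x.hom ≫ c.ι.app j))).trans ?_
        exact key s x.left _ _ (hp _)
      uniq := fun s m hm => by
        refine colimit.hom_ext (F := CostructuredArrow.proj L c.pt ⋙ F) fun x => ?_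
        erw [colimit.ι_desc]
        dsimp
        rw [← hm (p x).1]
        change cι L F x.left x.hom ≫ m = cι L F x.left (p x).2 ≫ G.map (c.ι.app (p x).1) ≫ m
        rw [← Category.assoc, cι_map, hp] }

theorem exists_extension [L.Full] [L.Faithful] :
    ∃ F' : C ⥤ B, PreservesFilteredColimitsOfSize.{w, w} F' ∧ Nonempty (L ⋙ F' ≅ F) :=
  haveI : IsIso (L.pointwiseLeftKanExtensionUnit F) :=
    (Functor.pointwiseLeftKanExtensionIsPointwiseLeftKanExtension L F).isIso_hom
  ⟨L.pointwiseLeftKanExtension F, preservesFilteredColimits L F, ⟨(asIso (L.pointwiseLeftKanExtensionUnit F)).symm⟩⟩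

end Extension

section Exact

variable (F' : C ⥤ B) [PreservesFilteredColimitsOfSize.{w, w} F']

theorem additive [Preadditive C] [Preadditive B] [Preadditive P] [L.Additive] [L.Full] [(L ⋙ F').Additive] :
    F'.Additive := by
  refine ⟨fun {M N f g} => ?_⟩
  haveI := PreservesFilteredColimitsOfSize.preserves_filtered_colimits (F := F') (Stage L M)
  refine (isColimitOfPreserves F' (presIsColimit L M)).hom_ext fun a => ?_
  let x := ((st L M).obj a).hom
  let d := ((st L M).obj a).left
  obtain ⟨i, φ, hφ⟩ := exists_factor L (presIsColimit L N) (x ≫ f)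
  obtain ⟨j, ψ, hψ⟩ := exists_factor L (presIsColimit L N) (x ≫ g)
  let k := IsFiltered.max i j
  obtain ⟨φ', hφ'⟩ := L.map_surjective (φ ≫ (diag L N).map (IsFiltered.leftToMax i j))
  obtain ⟨ψ', hψ'⟩ := L.map_surjective (ψ ≫ (diag L N).map (IsFiltered.rightToMax i j))
  have e1 : L.map φ' ≫ (presCocone L N).ι.app k = x ≫ f := by
    rw [hφ', Category.assoc, (presCocone L N).w]; exact hφ
  have e2 : L.map ψ' ≫ (presCocone L N).ι.app k = x ≫ g := by
    rw [hψ', Category.assoc, (presCocone L N).w]; exact hψ
  show F'.map x ≫ F'.map (f + g) = F'.map x ≫ (F'.map f + F'.map g)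
  have h1 : x ≫ (f + g) = L.map (φ' + ψ') ≫ (presCocone L N).ι.app k := by
    rw [L.map_add, Preadditive.add_comp, Preadditive.comp_add, e1, e2]
  rw [Preadditive.comp_add, ← F'.map_comp, ← F'.map_comp, ← F'.map_comp, h1, ← e1, ← e2, F'.map_comp,
    F'.map_comp, F'.map_comp, show F'.map (L.map (φ' + ψ')) = (L ⋙ F').map (φ' + ψ') from rfl,
    (L ⋙ F').map_add, Preadditive.add_comp]
  rfl

/-- Kernels pass to filtered colimits. -/
theorem preservesKernel_of_colimit [HasZeroMorphisms C] [HasZeroMorphisms B] [HasLimits C]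
    {J : Type w} [SmallCategory J] [IsFiltered J] [HasColimitsOfShape J B] [HasColimitsOfShape J C]
    [PreservesLimitsOfShape WalkingParallelPair (colim : (J ⥤ B) ⥤ B)]
    [PreservesLimitsOfShape WalkingParallelPair (colim : (J ⥤ C) ⥤ C)]
    (G : C ⥤ B) [PreservesColimitsOfShape J G]
    {P' Q : J ⥤ C} (α : P' ⟶ Q)
    (hG : ∀ j, PreservesLimit (parallelPair (α.app j) 0) G)
    {cP : Cocone P'} (hP : IsColimit cP) {cQ : Cocone Q} (hQ : IsColimit cQ) (f : cP.pt ⟶ cQ.pt)
    (hf : ∀ j, α.app j ≫ cQ.ι.app j = cP.ι.app j ≫ f) :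
    PreservesLimit (parallelPair f 0) G := by
  haveI hW : PreservesLimit (parallelPair α 0) ((Functor.whiskeringRight J C B).obj G) := by
    refine preservesLimit_of_evaluation _ _ fun j => ?_
    haveI := hG j
    haveI : PreservesLimit (parallelPair α 0 ⋙ (evaluation J C).obj j) G :=
      preservesLimit_of_iso_diagram G (K₁ := parallelPair (α.app j) 0)
        ((diagramIsoParallelPair (parallelPair α 0 ⋙ (evaluation J C).obj j)) ≪≫
          parallelPair.ext (Iso.refl _) (Iso.refl _) (by simp) (by simp)).symm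
    exact inferInstanceAs (PreservesLimit (parallelPair α 0) ((evaluation J C).obj j ⋙ G))
  haveI hC : PreservesLimit (parallelPair α 0) (colim ⋙ G) :=
    preservesLimit_of_natIso _ (preservesColimitNatIso G).symm
  haveI : PreservesLimit (parallelPair α 0 ⋙ colim) G :=
    preservesLimit_of_preserves_limit_cone (isLimitOfPreserves colim (limit.isLimit (parallelPair α 0)))
      (isLimitOfPreserves (colim ⋙ G) (limit.isLimit (parallelPair α 0)))
  refine preservesLimit_of_iso_diagram G (diagramIsoParallelPair (parallelPair α 0 ⋙ colim) ≪≫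
    parallelPair.ext (colimit.isoColimitCocone ⟨cP, hP⟩) (colimit.isoColimitCocone ⟨cQ, hQ⟩) ?_ ?_)
  · refine colimit.hom_ext fun j => ?_
    simp [hf]
  · refine colimit.hom_ext fun j => ?_
    simp

/-- Cokernels pass to filtered colimits. -/
theorem preservesCokernel_of_colimit [HasZeroMorphisms C] [HasZeroMorphisms B] [HasColimitsOfShape WalkingParallelPair C]
    [HasColimitsOfShape WalkingParallelPair B]
    {J : Type w} [SmallCategory J] [HasColimitsOfShape J B] [HasColimitsOfShape J C]
    (G : C ⥤ B) [PreservesColimitsOfShape J G]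
    {P' Q : J ⥤ C} (α : P' ⟶ Q)
    (hG : ∀ j, PreservesColimit (parallelPair (α.app j) 0) G)
    {cP : Cocone P'} (hP : IsColimit cP) {cQ : Cocone Q} (hQ : IsColimit cQ) (f : cP.pt ⟶ cQ.pt)
    (hf : ∀ j, α.app j ≫ cQ.ι.app j = cP.ι.app j ≫ f) :
    PreservesColimit (parallelPair f 0) G := by
  haveI hW : PreservesColimit (parallelPair α 0) ((Functor.whiskeringRight J C B).obj G) := by
    refine preservesColimit_of_evaluation _ _ fun j => ?_
    haveI := hG j
    haveI : PreservesColimit (parallelPair α 0 ⋙ (evaluation J C).obj j) G :=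
      preservesColimit_of_iso_diagram G (K₁ := parallelPair (α.app j) 0)
        ((diagramIsoParallelPair (parallelPair α 0 ⋙ (evaluation J C).obj j)) ≪≫
          parallelPair.ext (Iso.refl _) (Iso.refl _) (by simp) (by simp)).symm
    exact inferInstanceAs (PreservesColimit (parallelPair α 0) ((evaluation J C).obj j ⋙ G))
  haveI : PreservesColimitsOfShape WalkingParallelPair (colim : (J ⥤ B) ⥤ B) :=
    haveI : (colim : (J ⥤ B) ⥤ B).IsLeftAdjoint := colimConstAdj.isLeftAdjoint
    inferInstance
  haveI : PreservesColimitsOfShape WalkingParallelPair (colim : (J ⥤ C) ⥤ C) :=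
    haveI : (colim : (J ⥤ C) ⥤ C).IsLeftAdjoint := colimConstAdj.isLeftAdjoint
    inferInstance
  haveI hC : PreservesColimit (parallelPair α 0) (colim ⋙ G) :=
    preservesColimit_of_natIso _ (preservesColimitNatIso G).symm
  haveI : PreservesColimit (parallelPair α 0 ⋙ colim) G :=
    preservesColimit_of_preserves_colimit_cocone (isColimitOfPreserves colim (colimit.isColimit (parallelPair α 0)))
      (isColimitOfPreserves (colim ⋙ G) (colimit.isColimit (parallelPair α 0)))
  refine preservesColimit_of_iso_diagram G (diagramIsoParallelPair (parallelPair α 0 ⋙ colim) ≪≫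
    parallelPair.ext (colimit.isoColimitCocone ⟨cP, hP⟩) (colimit.isoColimitCocone ⟨cQ, hQ⟩) ?_ ?_)
  · refine colimit.hom_ext fun j => ?_
    simp [hf]
  · refine colimit.hom_ext fun j => ?_
    simp

variable {M N : C} (f : M ⟶ N)

/-- The pairs of stages compatible with a morphism. -/
abbrev Pair : Type w := Comma (st L M ⋙ CostructuredArrow.map f) (st L N)

/-- The morphism of diagrams attached to a morphism. -/
def pairα : (Comma.fst (st L M ⋙ CostructuredArrow.map f) (st L N) ⋙ diag L M) ⟶
    Comma.snd (st L M ⋙ CostructuredArrow.map f) (st L N) ⋙ diag L N where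
  app j := L.map j.hom.left
  naturality i j g := by
    have := congrArg (fun t => L.map (CommaMorphism.left t)) g.w
    simpa using this

theorem pairα_w (j : Pair L f) : (pairα L f).app j ≫ (presCocone L N).ι.app j.right =
    (presCocone L M).ι.app j.left ≫ f :=
  CostructuredArrow.w j.hom

theorem preservesKernel [HasZeroMorphisms C] [HasZeroMorphisms B] [HasLimits C] [HasColimitsOfSize.{w, w} C]
    [HasFilteredColimitsOfSize.{w, w} B]
    (hB : ∀ (J : Type w) [SmallCategory J] [IsFiltered J],
      PreservesLimitsOfShape WalkingParallelPair (colim : (J ⥤ B) ⥤ B))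
    (hC : ∀ (J : Type w) [SmallCategory J] [IsFiltered J],
      PreservesLimitsOfShape WalkingParallelPair (colim : (J ⥤ C) ⥤ C))
    (h : ∀ {a b : P} (g : a ⟶ b), PreservesLimit (parallelPair (L.map g) 0) F') :
    PreservesLimit (parallelPair f 0) F' := by
  haveI : IsFiltered (Pair L f) := inferInstanceAs (IsFiltered (Comma _ (st L N)))
  haveI := hB (Pair L f)
  haveI := hC (Pair L f)
  haveI : HasColimitsOfShape (Pair L f) B := HasFilteredColimitsOfSize.HasColimitsOfShape _
  haveI : PreservesColimitsOfShape (Pair L f) F' := PreservesFilteredColimitsOfSize.preserves_filtered_colimits _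
  exact preservesKernel_of_colimit F' (pairα L f) (fun j => h j.hom.left)
    ((Functor.Final.isColimitWhiskerEquiv (Comma.fst _ (st L N)) _).symm (presIsColimit L M))
    ((Functor.Final.isColimitWhiskerEquiv (Comma.snd (st L M ⋙ CostructuredArrow.map f) (st L N)) _).symm (presIsColimit L N)) f
    (fun j => pairα_w L f j)

theorem preservesCokernel [HasZeroMorphisms C] [HasZeroMorphisms B]
    [HasColimitsOfShape WalkingParallelPair C] [HasColimitsOfShape WalkingParallelPair B]
    [HasColimitsOfSize.{w, w} C] [HasFilteredColimitsOfSize.{w, w} B]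
    (h : ∀ {a b : P} (g : a ⟶ b), PreservesColimit (parallelPair (L.map g) 0) F') :
    PreservesColimit (parallelPair f 0) F' := by
  haveI : IsFiltered (Pair L f) := inferInstanceAs (IsFiltered (Comma _ (st L N)))
  haveI : HasColimitsOfShape (Pair L f) B := HasFilteredColimitsOfSize.HasColimitsOfShape _
  haveI : PreservesColimitsOfShape (Pair L f) F' := PreservesFilteredColimitsOfSize.preserves_filtered_colimits _
  exact preservesCokernel_of_colimit F' (pairα L f) (fun j => h j.hom.left)
    ((Functor.Final.isColimitWhiskerEquiv (Comma.fst _ (st L N)) _).symm (presIsColimit L M))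
    ((Functor.Final.isColimitWhiskerEquiv (Comma.snd (st L M ⋙ CostructuredArrow.map f) (st L N)) _).symm (presIsColimit L N)) f
    (fun j => pairα_w L f j)

end Exact

end Groth.Agent.IndExt2
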