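import Groth.Agent.Lib.IndExt2.Basic
import Groth.Agent.Lib.FPExt12.Present
import Groth.Agent.Lib.ModM1.Coh
import Groth.Agent.Lib.ModM1.FibreProd
import Groth.Agent.Lib.DPush9.Coh

/-!
# Coherent modules inside quasi-coherent modules on a Noetherian scheme
-/

set_option autoImplicit false
set_option linter.style.haveILetI false
set_option linter.unusedSectionVars false
set_option backward.isDefEq.respectTransparency false

universe u

open CategoryTheory CategoryTheory.Limits AlgebraicGeometry
open scoped ZeroObject

noncomputable section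

namespace Groth.Agent.IndExt2

variable (X : Scheme.{u}) [IsNoetherian X]

/-- Coherent modules. -/
abbrev cohP : ObjectProperty X.Modules := fun M : X.Modules => Coh.IsCoh M

/-- The inclusion of coherent modules in quasi-coherent modules. -/
abbrev cohι : (cohP X).FullSubcategory ⥤ QCohCat.QCoh X :=
  ObjectProperty.ιOfLE (P := (fun M : X.Modules => Coh.IsCoh M)) (P' := QCohCat.isQCoh X) (fun _ h => h.1)

instance : (cohP X).ContainsZero :=
  ⟨⟨0, isZero_zero _, DPush9.isCoh_of_isZero (isZero_zero _)⟩⟩

theorem isCoh_of_iso {M N : X.Modules} (e : M ≅ N) (h : Coh.IsCoh M) : Coh.IsCoh N :=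
  M1.isCoh_of_mono e.inv h (M1.isQCoh_of_isIso e h.1)

instance : (cohP X).IsClosedUnderIsomorphisms := ⟨fun e h => isCoh_of_iso X e h⟩

instance : (cohP X).IsClosedUnderKernels where
  kernels_le := by
    rintro _ ⟨f, k, hk, h1, h2⟩
    exact isCoh_of_iso X ((kernelIsKernel f).conePointUniqueUpToIso hk) (M1.isCoh_kernel h1 h2.1 f)

instance : (cohP X).IsClosedUnderCokernels where
  cokernels_le := by
    rintro _ ⟨f, k, hk, h1, h2⟩
    exact isCoh_of_iso X ((cokernelIsCokernel f).coconePointUniqueUpToIso hk) (M1.isCoh_cokernel h1.1 h2 f)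

instance : (cohP X).IsClosedUnderFiniteProducts :=
  haveI : (cohP X).IsClosedUnderBinaryProducts := ⟨by
    rintro Z ⟨p⟩
    exact isCoh_of_iso X ((biprod.isoProd _ _) ≪≫ (HasLimit.isoOfNatIso (diagramIsoPair p.diag)).symm ≪≫
      ((p.isLimit.conePointUniqueUpToIso (limit.isLimit p.diag)).symm))
      (M1.isCoh_biprod (p.prop_diag_obj _) (p.prop_diag_obj _))⟩
  ObjectProperty.IsClosedUnderFiniteProducts.mk'

example : Abelian (cohP X).FullSubcategory := inferInstance

instance : (cohι X).Additive := ⟨fun {_ _ _ _} => rfl⟩

theorem preservesKernel_cohι {a b : (cohP X).FullSubcategory} (g : a ⟶ b) :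
    PreservesLimit (parallelPair g 0) (cohι X) :=
  haveI : PreservesLimit (parallelPair g 0) (cohι X ⋙ (QCohCat.isQCoh X).ι) :=
    (cohP X).preservesKernels_ι g
  preservesLimit_of_reflects_of_preserves (cohι X) (QCohCat.isQCoh X).ι

theorem preservesCokernel_cohι {a b : (cohP X).FullSubcategory} (g : a ⟶ b) :
    PreservesColimit (parallelPair g 0) (cohι X) :=
  haveI : PreservesColimit (parallelPair g 0) (cohι X ⋙ (QCohCat.isQCoh X).ι) :=
    (cohP X).preservesCokernels_ι g
  preservesColimit_of_reflects_of_preserves (cohι X) (QCohCat.isQCoh X).ι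

/-- The finitely presentable quasi-coherent modules. -/
abbrev fpP : ObjectProperty (QCohCat.QCoh X) := ObjectProperty.isFinitelyPresentable.{u} _

/-- Coherent modules as finitely presentable quasi-coherent modules. -/
abbrev toFP : (cohP X).FullSubcategory ⥤ (fpP X).FullSubcategory :=
  (fpP X).lift (cohι X) fun M => (QCoh8.isFinitelyPresentable_iff _).2 ((M1.isCoh_iff_isFP _).1 M.property)

instance : (toFP X).EssSurj :=
  ⟨fun K => ⟨⟨K.obj.obj, (M1.isCoh_iff_isFP _).2 ((QCoh8.isFinitelyPresentable_iff K.obj).1 K.property)⟩,
    ⟨Iso.refl _⟩⟩⟩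

instance : (toFP X).IsEquivalence where

attribute [local instance] Cardinal.fact_isRegular_aleph0

instance : IsFinitelyAccessibleCategory.{u} (QCohCat.QCoh X) :=
  inferInstanceAs (IsCardinalAccessibleCategory (QCohCat.QCoh X) Cardinal.aleph0.{u})

instance : (cohι X).IsDense :=
  inferInstanceAs ((toFP X ⋙ (fpP X).ι).IsDense)

instance (M : QCohCat.QCoh X) : IsFiltered (CostructuredArrow (cohι X) M) :=
  IsFiltered.of_equivalence (CostructuredArrow.pre (toFP X) (fpP X).ι M).asEquivalence.symm

instance (M : (cohP X).FullSubcategory) : IsFinitelyPresentable.{u} ((cohι X).obj M) :=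
  (QCoh8.isFinitelyPresentable_iff _).2 ((M1.isCoh_iff_isFP _).1 M.property)

instance : EssentiallySmall.{u} (cohP X).FullSubcategory :=
  (essentiallySmall_congr (toFP X).asEquivalence).2 inferInstance

instance (M : QCohCat.QCoh X) : EssentiallySmall.{u} (CostructuredArrow (cohι X) M) :=
  CostructuredArrow.essentiallySmall

variable {X} {Y : Scheme.{u}} [IsNoetherian Y] (F : (cohP X).FullSubcategory ⥤ (cohP Y).FullSubcategory)
  (F' : QCohCat.QCoh X ⥤ QCohCat.QCoh Y) [PreservesFilteredColimitsOfSize.{u, u} F']
  (e : cohι X ⋙ F' ≅ F ⋙ cohι Y)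

include e in
theorem additive_ext [F.Additive] : F'.Additive :=
  haveI : (cohι X ⋙ F').Additive := Functor.additive_of_iso e.symm
  additive (cohι X) F'

include e in
theorem preservesCoproducts_ext [F.Additive] (J : Type u) : PreservesColimitsOfShape (Discrete J) F' :=
  haveI := additive_ext F F' e
  EtShriek24.preservesCoproducts_of_finite_and_filtered F' J

include e in
theorem preservesFiniteLimits_ext [PreservesFiniteLimits F] : PreservesFiniteLimits F' := by
  haveI : F.Additive := leftExactFunctor_le_additiveFunctor _ _ F ((leftExactFunctor_iff F).2 inferInstance)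
  haveI := additive_ext F F' e
  haveI : ∀ {M N : QCohCat.QCoh X} (f : M ⟶ N), PreservesLimit (parallelPair f 0) F' := fun f =>
    preservesKernel (cohι X) F' f (fun J _ _ => inferInstance) (fun J _ _ => inferInstance) fun {a b} g => by
      haveI := preservesKernel_cohι X g
      haveI := preservesKernel_cohι Y (F.map g)
      haveI : PreservesLimit (parallelPair g 0) (F ⋙ cohι Y) := by
        haveI : PreservesLimit (parallelPair g 0 ⋙ F) (cohι Y) :=
          preservesLimit_of_iso_diagram (cohι Y) (K₁ := parallelPair (F.map g) 0)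
            (parallelPair.ext (F := parallelPair (F.map g) 0) (G := parallelPair g 0 ⋙ F) (Iso.refl _) (Iso.refl _)
              (by simp) (by simp))
        infer_instance
      haveI : PreservesLimit (parallelPair g 0) (cohι X ⋙ F') := preservesLimit_of_natIso _ e.symm
      haveI : PreservesLimit (parallelPair g 0 ⋙ cohι X) F' :=
        preservesLimit_of_preserves_limit_cone (isLimitOfPreserves (cohι X) (limit.isLimit (parallelPair g 0)))
          (isLimitOfPreserves (cohι X ⋙ F') (limit.isLimit (parallelPair g 0)))
      exact preservesLimit_of_iso_diagram F' ((diagramIsoParallelPair (parallelPair g 0 ⋙ cohι X)) ≪≫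
        parallelPair.ext (Iso.refl _) (Iso.refl _) (by simp) (by simp))
  exact Functor.preservesFiniteLimits_of_preservesKernels F'

include e in
theorem preservesFiniteColimits_ext [PreservesFiniteColimits F] : PreservesFiniteColimits F' := by
  haveI : F.Additive := rightExactFunctor_le_additiveFunctor _ _ F ((rightExactFunctor_iff F).2 inferInstance)
  haveI := additive_ext F F' e
  haveI : ∀ {M N : QCohCat.QCoh X} (f : M ⟶ N), PreservesColimit (parallelPair f 0) F' := fun f =>
    preservesCokernel (cohι X) F' f fun {a b} g => by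
      haveI := preservesCokernel_cohι X g
      haveI := preservesCokernel_cohι Y (F.map g)
      haveI : PreservesColimit (parallelPair g 0) (F ⋙ cohι Y) := by
        haveI : PreservesColimit (parallelPair g 0 ⋙ F) (cohι Y) :=
          preservesColimit_of_iso_diagram (cohι Y) (K₁ := parallelPair (F.map g) 0)
            (parallelPair.ext (F := parallelPair (F.map g) 0) (G := parallelPair g 0 ⋙ F) (Iso.refl _) (Iso.refl _)
              (by simp) (by simp))
        infer_instance
      haveI : PreservesColimit (parallelPair g 0) (cohι X ⋙ F') := preservesColimit_of_natIso _ e.symm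
      haveI : PreservesColimit (parallelPair g 0 ⋙ cohι X) F' :=
        preservesColimit_of_preserves_colimit_cocone
          (isColimitOfPreserves (cohι X) (colimit.isColimit (parallelPair g 0)))
          (isColimitOfPreserves (cohι X ⋙ F') (colimit.isColimit (parallelPair g 0)))
      exact preservesColimit_of_iso_diagram F' ((diagramIsoParallelPair (parallelPair g 0 ⋙ cohι X)) ≪≫
        parallelPair.ext (Iso.refl _) (Iso.refl _) (by simp) (by simp))
  exact Functor.preservesFiniteColimits_of_preservesCokernels F'

end Groth.Agent.IndExt2
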